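import Cfsg.Agent.H660.WittIndex

/-!
# There is no simple permutation group of degree 29 and order 145926144000
-/

set_option autoImplicit false
open Subgroup MulAction Equiv

namespace Cfsg.Agent.H660.RuIndex

open Cfsg.Agent.H660.PermPrime Cfsg.Agent.H660.WittIndex

section

variable {α : Type*} [Fintype α] [DecidableEq α]

omit [Fintype α] [DecidableEq α] in
theorem comm_apply {u v : Perm α} (h : Commute u v) (x : α) : u (v x) = v (u x) :=
  congrArg (fun f : Perm α => f x) h.eq

/-- If `ρ` has two cycles, a moved point lies in one of two given distinct cycles. -/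
theorem sameCycle_or {ρ : Perm α} (h2 : ρ.cycleFactorsFinset.card ≤ 2) {x y z : α} (hx : ρ x ≠ x)
    (hy : ρ y ≠ y) (hz : ρ z ≠ z) (hxy : ¬ ρ.SameCycle x y) : ρ.SameCycle x z ∨ ρ.SameCycle y z := by
  have hx' : x ∈ ρ.support := Perm.mem_support.2 hx
  have hy' : y ∈ ρ.support := Perm.mem_support.2 hy
  have hz' : z ∈ ρ.support := Perm.mem_support.2 hz
  rw [Perm.sameCycle_iff_cycleOf_eq_of_mem_support hx' hy'] at hxy
  rw [Perm.sameCycle_iff_cycleOf_eq_of_mem_support hx' hz',
    Perm.sameCycle_iff_cycleOf_eq_of_mem_support hy' hz']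
  by_contra hcon
  push Not at hcon
  have h1 : ({ρ.cycleOf x, ρ.cycleOf y, ρ.cycleOf z} : Finset (Perm α)) ⊆
      ρ.cycleFactorsFinset := by
    intro c hc
    simp only [Finset.mem_insert, Finset.mem_singleton] at hc
    rcases hc with rfl | rfl | rfl
    · exact Perm.cycleOf_mem_cycleFactorsFinset_iff.2 hx'
    · exact Perm.cycleOf_mem_cycleFactorsFinset_iff.2 hy'
    · exact Perm.cycleOf_mem_cycleFactorsFinset_iff.2 hz'
  have h3 := Finset.card_le_card h1
  rw [Finset.card_eq_three.2 ⟨_, _, _, hxy, hcon.1, hcon.2, rfl⟩] at h3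
  omega

/-- A permutation commuting with `ρ`, which is a product of two 13-cycles, has a power acting
trivially on the moved points. -/
theorem pow_26 {ρ v : Perm α} (h2 : ρ.cycleFactorsFinset.card ≤ 2) (hρ : ρ ^ 13 = 1)
    (hc : Commute v ρ) {y : α} (hy : ρ y ≠ y) : (v ^ 26) y = y := by
  have hmove : ∀ x, ρ x ≠ x → ρ (v x) ≠ v x := by
    intro x hx h
    apply hx
    rw [← comm_apply hc x] at h
    exact v.injective h
  -- if `w y = ρ^i y` then `w^k y = ρ^(ik) y`
  have hpow : ∀ (w : Perm α) (i : ℤ), Commute w ρ → w y = (ρ ^ i) y → ∀ k : ℕ,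
      (w ^ k) y = (ρ ^ (i * k)) y := by
    intro w i hw hi k
    induction k with
    | zero => simp
    | succ k ih =>
      rw [pow_succ', Perm.mul_apply, ih, comm_apply (hw.zpow_right _) y, hi, ← Perm.mul_apply,
        ← zpow_add]
      congr 2
      push_cast
      ring
  have h13 : ∀ (j : ℤ), (ρ ^ (j * 13)) y = y := by
    intro j
    rw [mul_comm, zpow_mul]
    have : (ρ ^ (13 : ℤ)) = 1 := by exact_mod_cast hρ
    rw [this, one_zpow, Perm.one_apply]
  by_cases h : ρ.SameCycle y (v y)
  · obtain ⟨i, hi⟩ := h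
    rw [hpow v i hc hi.symm 26]
    have := h13 (i * 2)
    rw [mul_assoc] at this
    exact_mod_cast this
  · have hvy := hmove y hy
    have hvvy := hmove (v y) hvy
    have h3 : ρ.SameCycle y (v (v y)) := by
      rcases sameCycle_or h2 hy hvy hvvy h with h4 | h4
      · exact h4
      · exfalso
        apply h
        obtain ⟨j, hj⟩ := h4
        refine ⟨j, v.injective ?_⟩
        rw [comm_apply (hc.zpow_right j) y]
        exact hj
    obtain ⟨i, hi⟩ := h3
    have hv2 : Commute (v ^ 2) ρ := hc.pow_left 2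
    have hi2 : (v ^ 2) y = (ρ ^ i) y := by rw [hi, pow_two, Perm.mul_apply]
    have h4 := hpow (v ^ 2) i hv2 hi2 13
    rw [← pow_mul] at h4
    rw [show (2 * 13 : ℕ) = 26 from rfl] at h4
    rw [h4]
    exact_mod_cast h13 i

end

/-- **Degree 29.** -/
theorem false_twentynine (G : Subgroup (Perm (Fin 29))) [IsPretransitive G (Fin 29)]
    [IsSimpleGroup G] (hna : ¬ IsMulCommutative G) (hG : Nat.card G = 145926144000) : False := by
  classical
  have hp29 : Nat.Prime 29 := by norm_num
  have : Fact (Nat.Prime 13) := ⟨by norm_num⟩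
  have hA := le_alternating G hna
  have h2t := two_transitive G hp29 hna
  have hno : ¬ alternatingGroup (Fin 29) ≤ G := by
    intro hle
    have heq : G = alternatingGroup (Fin 29) := le_antisymm hA hle
    have hnt : Nontrivial (Fin 29) := Fin.nontrivial_iff_two_le.2 hp29.two_le
    have h3 : 2 * Nat.card (alternatingGroup (Fin 29)) = Nat.factorial 29 := by
      rw [Nat.card_eq_fintype_card, two_mul_card_alternatingGroup, Fintype.card_perm,
        Fintype.card_fin]
    rw [← heq, hG] at h3
    revert h3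
    decide +kernel
  have h2 : ∀ a b a' b' : Fin 29, a ≠ b → a' ≠ b' → ∃ g : G, g • a = a' ∧ g • b = b' := by
    intro a b a' b' hab hab'
    rw [is_two_pretransitive_iff] at h2t
    obtain ⟨g, hg⟩ := h2t hab hab'
    exact ⟨g, hg⟩
  obtain ⟨P, r, hr, hP⟩ := exists_gen (G := G) (q := 13) (m := 11225088000) (by rw [hG])
    (by norm_num)
  let ρ : Perm (Fin 29) := (r : Perm (Fin 29))
  have hρ : orderOf ρ = 13 := by rw [Subgroup.orderOf_coe, hr]
  obtain ⟨n, hn⟩ := Perm.cycleType_prime_order (σ := ρ) (by rw [hρ]; norm_num)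
  rw [hρ] at hn
  have hsum : ρ.support.card = (n + 1) * 13 := by
    rw [← Perm.sum_cycleType, hn, Multiset.sum_replicate, smul_eq_mul]
  have hle : ρ.support.card ≤ 29 := by
    have := Finset.card_le_univ ρ.support
    rwa [Fintype.card_fin] at this
  have hn1 : n = 1 := by
    have hn2 : n < 2 := by omega
    rcases Nat.lt_or_ge n 1 with h | h
    · exfalso
      have hn0 : n = 0 := by omega
      subst hn0
      have hcy : ρ.IsCycle := by
        rw [← Perm.card_cycleType_eq_one, hn, Multiset.card_replicate]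
      exact hno (Cfsg.Agent.S0713.result G (preprimitive G hp29) (p := 13) (by norm_num)
        (by rw [Fintype.card_fin]; norm_num) (by rw [Fintype.card_fin]; norm_num) hcy
        (by rw [hsum]) r.2)
    · omega
  subst hn1
  have hfac : ρ.cycleFactorsFinset.card ≤ 2 := by
    have h1 := congrArg Multiset.card hn
    rw [Multiset.card_replicate, Perm.cycleType_def, Multiset.card_map] at h1
    exact le_of_eq h1
  have hsc' : (ρ.supportᶜ).card = 3 := by rw [Finset.card_compl, hsum, Fintype.card_fin]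
  obtain ⟨a, b, c, hab, hac, hbc, hset⟩ := Finset.card_eq_three.1 hsc'
  have hfix : ∀ x, ρ x = x ↔ x = a ∨ x = b ∨ x = c := by
    intro x
    have h1 : x ∈ ρ.supportᶜ ↔ ρ x = x := by rw [Finset.mem_compl, Perm.mem_support, not_not]
    rw [← h1, hset]
    simp
  have ha : ρ a = a := (hfix a).2 (Or.inl rfl)
  have hb : ρ b = b := (hfix b).2 (Or.inr (Or.inl rfl))
  have hc : ρ c = c := (hfix c).2 (Or.inr (Or.inr rfl))
  have hrP : r ∈ (P : Subgroup G) := by rw [hP]; exact mem_zpowers r
  have hPfix : ∀ x, ρ x = x → ∀ s ∈ (P : Subgroup G), s • x = x := by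
    intro x hx s hs
    rw [hP] at hs
    have h1 : zpowers r ≤ stabilizer G x := zpowers_le.2 hx
    exact h1 hs
  have hconj : ∀ g ∈ normalizer ((P : Subgroup G) : Set G), ∃ k : ℕ, g * r * g⁻¹ = r ^ k := by
    intro g hg
    have h1 : g * r * g⁻¹ ∈ (P : Subgroup G) := (mem_normalizer_iff.1 hg r).1 hrP
    rw [hP, mem_zpowers_iff_mem_range_orderOf] at h1
    simp only [Finset.mem_image] at h1
    obtain ⟨k, _, hk⟩ := h1
    exact ⟨k, hk.symm⟩
  have hnfix : ∀ g ∈ normalizer ((P : Subgroup G) : Set G), ∀ x, ρ x = x → ρ (g • x) = g • x := by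
    intro g hg x hx
    have h1 : g⁻¹ * r * g ∈ (P : Subgroup G) := by
      have h3 := (mem_normalizer_iff.1 (inv_mem hg) r).1 hrP
      rwa [inv_inv] at h3
    have h3 := hPfix x hx _ h1
    rw [mul_smul, mul_smul, inv_smul_eq_iff] at h3
    exact h3
  obtain ⟨g, hgN, hga, hgb⟩ := witt_two h2 P hab hab.symm (hPfix a ha) (hPfix b hb) (hPfix b hb)
    (hPfix a ha)
  obtain ⟨h, hhN, hhb, hhc⟩ := witt_two h2 P hbc hbc.symm (hPfix b hb) (hPfix c hc) (hPfix c hc)
    (hPfix b hb)
  have hgc : g • c = c := by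
    rcases (hfix _).1 (hnfix g hgN c hc) with h1 | h1 | h1
    · exfalso; exact hbc (MulAction.injective g (hgb.trans h1.symm))
    · exfalso; exact hac (MulAction.injective g (hga.trans h1.symm))
    · exact h1
  have hha : h • a = a := by
    rcases (hfix _).1 (hnfix h hhN a ha) with h1 | h1 | h1
    · exact h1
    · exfalso; exact hac (MulAction.injective h (h1.trans hhc.symm))
    · exfalso; exact hab (MulAction.injective h (h1.trans hhb.symm))
  obtain ⟨k, hk⟩ := hconj g hgN
  obtain ⟨m, hm⟩ := hconj h hhN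
  let z : G := (h * g)⁻¹ * (g * h)
  have hz : Commute z r := by
    have h1 : (g * h) * r * (g * h)⁻¹ = r ^ (k * m) := by
      have h3 : (g * h) * r * (g * h)⁻¹ = g * (h * r * h⁻¹) * g⁻¹ := by group
      rw [h3, hm, ← conj_pow, hk, ← pow_mul]
    have h3 : (h * g) * r * (h * g)⁻¹ = r ^ (k * m) := by
      have h3 : (h * g) * r * (h * g)⁻¹ = h * (g * r * g⁻¹) * h⁻¹ := by group
      rw [h3, hk, ← conj_pow, hm, ← pow_mul, mul_comm m k]
    have h4 : z * r * z⁻¹ = r := by
      have h5 : z * r * z⁻¹ = (h * g)⁻¹ * ((g * h) * r * (g * h)⁻¹) * (h * g) := by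
        simp only [z, mul_inv_rev, inv_inv, mul_assoc]
      rw [h5, h1, ← h3]
      group
    exact mul_inv_eq_iff_eq_mul.1 h4
  have hza : z • a = c := by
    simp only [z]
    rw [mul_smul, mul_smul, hha, hga, inv_smul_eq_iff, mul_smul, hgc, hhc]
  have hzb : z • b = a := by
    simp only [z]
    rw [mul_smul, mul_smul, hhb, hgc, inv_smul_eq_iff, mul_smul, hga, hhb]
  have hzc : z • c = b := by
    simp only [z]
    rw [mul_smul, mul_smul, hhc, hgb, inv_smul_eq_iff, mul_smul, hgb, hha]
  let v : Perm (Fin 29) := (z : Perm (Fin 29))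
  have hv : Commute v ρ := congrArg (Subtype.val : G → Perm (Fin 29)) hz.eq
  have hva : v a = c := hza
  have hvb : v b = a := hzb
  have hvc : v c = b := hzc
  have h3pow : ∀ x, ρ x = x → (v ^ 3) x = x := by
    intro x hx
    rw [pow_succ, pow_two, Perm.mul_apply, Perm.mul_apply]
    rcases (hfix x).1 hx with rfl | rfl | rfl
    · rw [hva, hvc, hvb]
    · rw [hvb, hva, hvc]
    · rw [hvc, hvb, hva]
  have h24 : ∀ x, ρ x = x → (v ^ 24) x = x := by
    intro x hx
    have h1 : v ^ 24 = (v ^ 3) ^ 8 := by rw [← pow_mul]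
    rw [h1]
    exact Perm.pow_apply_eq_self_of_apply_eq_self (h3pow x hx) 8
  have h26 : ∀ x, (v ^ 26) x = (v ^ 24) (v (v x)) := by
    intro x
    rw [show (26 : ℕ) = 24 + 2 from rfl, pow_add, pow_two, Perm.mul_apply, Perm.mul_apply]
  have hρ13 : ρ ^ 13 = 1 := by rw [← hρ]; exact pow_orderOf_eq_one ρ
  have hv26 : v ^ 26 = swap a c * swap a b := by
    ext x
    congr 1
    by_cases hx : ρ x = x
    · rw [h26 x, Perm.mul_apply]
      rcases (hfix x).1 hx with rfl | rfl | rfl
      · rw [hva, hvc, h24 b hb, swap_apply_left, swap_apply_of_ne_of_ne hab.symm hbc]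
      · rw [hvb, hva, h24 c hc, swap_apply_right, swap_apply_left]
      · rw [hvc, hvb, h24 a ha, swap_apply_of_ne_of_ne hac.symm hbc.symm, swap_apply_right]
    · rw [pow_26 hfac hρ13 hv hx, Perm.mul_apply]
      have hxa : x ≠ a := by rintro rfl; exact hx ha
      have hxb : x ≠ b := by rintro rfl; exact hx hb
      have hxc : x ≠ c := by rintro rfl; exact hx hc
      rw [swap_apply_of_ne_of_ne hxa hxb, swap_apply_of_ne_of_ne hxa hxc]
  have h3c : (swap a c * swap a b).IsThreeCycle := Perm.isThreeCycle_swap_mul_swap_same hac hab hbc.symm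
  have hmem : swap a c * swap a b ∈ G := by
    rw [← hv26]
    exact pow_mem z.2 26
  exact hno (Cfsg.Agent.S0713.result G (preprimitive G hp29) (p := 3) (by norm_num)
    (by rw [Fintype.card_fin]; norm_num) (by rw [Fintype.card_fin]; norm_num) h3c.isCycle
    h3c.card_support hmem)

end Cfsg.Agent.H660.RuIndex
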