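import Cfsg.Agent.SporadicB.RuTits

/-!
# `PSL₂(25)` in the Tits group (helper660)

The Tits group `T` of `SporadicB.RuTits` acts transitively on the 2304 points not adjacent to the point 0 of the
Rudvalis graph; the stabiliser `L` of the point 29 is a simple group of order 7800.
-/

set_option autoImplicit false
set_option maxRecDepth 100000
set_option exponentiation.threshold 5000

namespace Cfsg.Agent.H660.TitsL25

open Cfsg.Agent.SporadicB.RuData Cfsg.Agent.SporadicB.RuOrder Cfsg.Agent.SporadicB.RuTitsData
open Cfsg.Agent.SporadicB.RuTits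
open Cfsg.Agent.Lib.BitNet Cfsg.Agent.Lib.BitNetSimple
open MulAction

/-- the letters `x0, x1` and their inverses -/
def lt : ℕ → List (ℕ × ℕ)
  | 0 => x0
  | 1 => x1
  | 2 => x0.reverse
  | _ => x1.reverse

/-- the network of a word (the first letter acts first) -/
def nw (w : List ℕ) : List (ℕ × ℕ) := w.flatMap lt

theorem mem_nw {K : Subgroup (Equiv.Perm (Fin 4060))} (h0 : Mem K x0) (h1 : Mem K x1) (w : List ℕ) (hw : w ≠ []) :
    Mem K (nw w) := by
  have hl : ∀ a, Mem K (lt a) := by
    intro a
    match a with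
    | 0 => exact h0
    | 1 => exact h1
    | 2 => exact h0.reverse
    | n + 3 => exact h1.reverse
  induction w with
  | nil => exact absurd rfl hw
  | cons a w ih =>
    rcases eq_or_ne w [] with rfl | h
    · have : nw [a] = lt a := by simp [nw]
      rw [this]
      exact hl a
    · exact (hl a).append (ih h)

/-- two elements of order 3 -/
noncomputable def a3 : List (ℕ × ℕ) := nw [3, 3, 2, 3, 0, 3, 2, 3, 2]
noncomputable def b3 : List (ℕ × ℕ) := nw [0, 3, 3, 2, 3, 2, 3, 0, 3, 0]
/-- an element of order 13 and an involution fixing 15 -/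
noncomputable def h13 : List (ℕ × ℕ) := b3 ++ (a3 ++ (b3.reverse ++ a3.reverse))
noncomputable def j2 : List (ℕ × ℕ) :=
  b3 ++ (a3.reverse ++ (b3 ++ (a3 ++ (b3 ++ (a3.reverse ++ (b3 ++ (a3 ++ (b3 ++ a3))))))))

def q0 : Fin 4060 := ⟨29, by norm_num⟩
def q1 : Fin 4060 := ⟨15, by norm_num⟩
def q2 : Fin 4060 := ⟨69, by norm_num⟩

/-- the orbit of 15 -/
def m300 : ℕ := 0x2161010001860220a0020d1020000400000c40010200001600004a000020000403000200080000000010004008080000000060000000000210086801000000020000600000002000030000400c0010c240040000400200000000802100000000000801000080003040001000001000000080000000000200010010000202000000804030100202020001000c020000000000488000000000000180000000100000000008020000000800280006000000400000000002900000000040004400010000020042082080000004000000004000028000042000002000008000200002000004001000000410000400006400020800000044a2000000008083000100000000005010818200008080000000000000000000080c0100000100008010041000000013000000240000100000a08880000000000002010690000040000000000000000400000230000000e14012000000000000004a2000008002081020400002000440140000002000000000000020010000000010404940050000001008080000400020000401400120004000000000200080020020000000000000000100080380000440300880000204100520000a0000004002000001000000000008880000018000000000030000000000200000000000010000041030000d0000000040180080000000001800002202406a0000002a00000000080208000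

/-- the point stabiliser -/
def L : Subgroup (Equiv.Perm (Fin 4060)) := T ⊓ stabilizer (Equiv.Perm (Fin 4060)) q0
def L1 : Subgroup (Equiv.Perm (Fin 4060)) := L ⊓ stabilizer (Equiv.Perm (Fin 4060)) q1
def L2 : Subgroup (Equiv.Perm (Fin 4060)) := L1 ⊓ stabilizer (Equiv.Perm (Fin 4060)) q2

theorem fa : Nat.beq (appF a3 29) 29 = true := by decide +kernel
theorem fb : Nat.beq (appF b3 29) 29 = true := by decide +kernel
theorem fh : Nat.beq (appF h13 15) 15 = true := by decide +kernel
theorem fj : Nat.beq (appF j2 15) 15 = true := by decide +kernel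

theorem mema : Mem L a3 := Mem.stab (mem_nw tmem0 tmem1 _ (by simp)) fa
theorem memb : Mem L b3 := Mem.stab (mem_nw tmem0 tmem1 _ (by simp)) fb

/-- the subgroup generated by the two elements -/
def K : Subgroup (Equiv.Perm (Fin 4060)) := Subgroup.closure {perm mema.1, perm memb.1}
def K1 : Subgroup (Equiv.Perm (Fin 4060)) := K ⊓ stabilizer (Equiv.Perm (Fin 4060)) q1
def K2 : Subgroup (Equiv.Perm (Fin 4060)) := K1 ⊓ stabilizer (Equiv.Perm (Fin 4060)) q2

theorem K_le : K ≤ L := by
  rw [K, Subgroup.closure_le]
  rintro g (rfl | rfl)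
  · exact mema.2
  · exact memb.2

theorem kma : Mem K a3 := ⟨mema.1, Subgroup.subset_closure (Or.inl rfl)⟩
theorem kmb : Mem K b3 := ⟨memb.1, Subgroup.subset_closure (Or.inr rfl)⟩

theorem gensK : ∀ g ∈ [a3, b3], Mem K g := by
  intro g hg
  simp only [List.mem_cons, List.not_mem_nil, or_false] at hg
  rcases hg with rfl | rfl
  exacts [kma, kmb]

theorem kmh : Mem K1 h13 := Mem.stab (kmb.append (kma.append (kmb.reverse.append kma.reverse))) fh
theorem kmj : Mem K1 j2 := Mem.stab (kmb.append (kma.reverse.append (kmb.append (kma.append (kmb.append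
  (kma.reverse.append (kmb.append (kma.append (kmb.append kma))))))))) fj

theorem gensK1 : ∀ g ∈ [h13, j2], Mem K1 g := by
  intro g hg
  simp only [List.mem_cons, List.not_mem_nil, or_false] at hg
  rcases hg with rfl | rfl
  exacts [kmh, kmj]

theorem gensT' : ∀ g ∈ [x0, x1], Mem T g := gensT

theorem orbT' : Nat.ble 2304 (popc 12 (iterF [x0, x1] 15 (Nat.pow 2 29))) = true := by decide +kernel
theorem orbK : Nat.ble 300 (popc 12 (iterF [a3, b3] 14 (Nat.pow 2 15))) = true := by decide +kernel
theorem orbK1 : Nat.ble 26 (popc 12 (iterF [h13, j2] 7 (Nat.pow 2 69))) = true := by decide +kernel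

theorem lowT' : 2304 * Nat.card L ≤ Nat.card T := lower_step' (L := 12) (k := 15) gensT' orbT'
theorem lowK : 300 * Nat.card K1 ≤ Nat.card K := lower_step' (L := 12) (k := 14) gensK orbK
theorem lowK1_aux {g1 g2 : List (ℕ × ℕ)} (hg : ∀ g ∈ [g1, g2], Mem K1 g)
    (ho : Nat.ble 26 (popc 12 (iterF [g1, g2] 7 (Nat.pow 2 69))) = true) : 26 * Nat.card K2 ≤ Nat.card K1 :=
  lower_step' (L := 12) (k := 7) hg ho

theorem lowK1 : 26 * Nat.card K2 ≤ Nat.card K1 := lowK1_aux gensK1 orbK1

theorem card_L_le : Nat.card L ≤ 7800 := by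
  have h1 := lowT'
  rw [card_T] at h1
  omega

theorem K_eq : K = L := by
  refine Subgroup.eq_of_le_of_card_ge K_le ?_
  have := lowK
  have := lowK1
  have := card_L_le
  have : 0 < Nat.card K2 := Nat.card_pos
  omega

theorem card_L : Nat.card L = 7800 := by
  have := lowK
  have := lowK1
  have := card_L_le
  have : 0 < Nat.card K2 := Nat.card_pos
  rw [← K_eq]
  have h : Nat.card K ≤ 7800 := by rw [K_eq]; exact card_L_le
  omega

theorem card_K : Nat.card K = 7800 := by rw [K_eq]; exact card_L

theorem card_K1 : Nat.card K1 = 26 := by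
  have := lowK
  have := lowK1
  have := card_K
  have h1 : 0 < Nat.card K2 := Nat.card_pos
  omega

theorem card_K2 : Nat.card K2 = 1 := by
  have := lowK
  have := lowK1
  have := card_K
  have h1 : 0 < Nat.card K2 := Nat.card_pos
  omega

theorem card_orbit : Nat.card (orbit K q1) = 300 := by
  have h := card_eq_orbit_mul K q1
  have h1 : Nat.card ↥(K ⊓ stabilizer (Equiv.Perm (Fin 4060)) q1) = 26 := card_K1
  rw [card_K, h1] at h
  omega

/-! ### the orbit of 15 -/

theorem inva : Nat.beq (appMF a3 m300) m300 = true := by decide +kernel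
theorem invb : Nat.beq (appMF b3 m300) m300 = true := by decide +kernel

theorem inv_of {l : List (ℕ × ℕ)} (ok : OkNet 4060 l) {m : ℕ} (h : Nat.beq (appMF l m) m = true) (x : Fin 4060) :
    m.testBit (perm ok x) = m.testBit x := by
  rw [appMF_eq] at h
  have h1 : appM l m = m := Nat.eq_of_beq_eq_true h
  have h2 := testBit_appM ok.valid m x
  rw [h1] at h2
  exact h2

theorem m_inv {g : Equiv.Perm (Fin 4060)} (hg : g ∈ K) (x : Fin 4060) : m300.testBit (g x) = m300.testBit x := by
  refine Subgroup.closure_induction (p := fun g _ => ∀ x : Fin 4060, m300.testBit (g x) = m300.testBit x)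
    ?_ ?_ ?_ ?_ hg x
  · rintro g (rfl | rfl) x
    · exact inv_of mema.1 inva x
    · exact inv_of memb.1 invb x
  · intro x
    rfl
  · intro g h _ _ hg hh x
    change m300.testBit (g (h x)) = _
    rw [hg, hh]
  · intro g _ hg x
    have := hg (g⁻¹ x)
    rw [← this]
    congr 1
    simp

theorem m_q1 : tb m300 15 = true := by decide +kernel
theorem m_q2 : tb m300 69 = true := by decide +kernel
theorem m_card : Nat.ble (popc 12 m300) 300 = true := by decide +kernel

theorem orbit_sub : ∀ x ∈ orbit K q1, m300.testBit x = true := by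
  rintro _ ⟨g, rfl⟩
  have h : m300.testBit (q1 : ℕ) = true := by
    have := m_q1
    rwa [tb_eq] at this
  change m300.testBit ((g : Equiv.Perm (Fin 4060)) q1) = true
  rw [m_inv g.2, h]

theorem orbit_eq : (orbit K q1) = {x : Fin 4060 | m300.testBit x = true} := by
  apply Set.eq_of_subset_of_ncard_le
  · intro x hx
    exact orbit_sub x hx
  · rw [← Nat.card_coe_set_eq (orbit K q1), card_orbit]
    have e : {x : Fin 4060 | m300.testBit x = true} = ((pts 4060 m300 : Finset (Fin 4060)) : Set (Fin 4060)) := by
      ext x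
      rw [Finset.mem_coe, mem_pts]
      rfl
    rw [e, Set.ncard_coe_finset]
    exact (card_pts_le (K := 12) (by norm_num) _).trans (Nat.le_of_ble_eq_true m_card)
  · exact Set.toFinite _

/-- `h13` fixes only 15 in the orbit -/
noncomputable def fixChk : ℕ → Bool :=
  Nat.rec true (fun i r => Bool.rec r (Bool.and (Bool.or (Nat.beq i 15) (Bool.not (Nat.beq (appF h13 i) i))) r) (tb m300 i))

theorem fixChk_succ (i : ℕ) : fixChk (i + 1) =
    Bool.rec (fixChk i) (Bool.and (Bool.or (Nat.beq i 15) (Bool.not (Nat.beq (appF h13 i) i))) (fixChk i)) (tb m300 i) :=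
  rfl

theorem fixChk_spec : ∀ (n : ℕ), fixChk n = true → ∀ i < n, tb m300 i = true → appF h13 i = i → i = 15
  | 0, _, i, hi, _, _ => by omega
  | n + 1, h, i, hi, ht, ha => by
    rw [fixChk_succ] at h
    rcases Nat.lt_succ_iff_lt_or_eq.1 hi with h1 | rfl
    · refine fixChk_spec n ?_ i h1 ht ha
      cases hb : tb m300 n with
      | false => rw [hb] at h; exact h
      | true =>
        rw [hb] at h
        exact (Bool.and_eq_true_iff.1 h).2
    · rw [ht] at h
      have h2 := (Bool.and_eq_true_iff.1 h).1
      rw [ha, Nat.beq_refl] at h2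
      simpa using h2

theorem fix_all : fixChk 4060 = true := by decide +kernel

theorem powa : (Nat.beq (powF a3 3 0) 0 && (Nat.beq (powF a3 3 29) 29 && (Nat.beq (powF a3 3 580) 580 &&
  Nat.beq (powF a3 3 577) 577))) = true := by decide +kernel
theorem powb : (Nat.beq (powF b3 3 0) 0 && (Nat.beq (powF b3 3 29) 29 && (Nat.beq (powF b3 3 580) 580 &&
  Nat.beq (powF b3 3 577) 577))) = true := by decide +kernel
theorem powh : (Nat.beq (powF h13 13 0) 0 && (Nat.beq (powF h13 13 29) 29 && (Nat.beq (powF h13 13 580) 580 &&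
  Nat.beq (powF h13 13 577) 577))) = true := by decide +kernel

theorem K_le_H : K ≤ H := K_le.trans (inf_le_left.trans (T_le.trans inf_le_left))

theorem K_ne_bot : K ≠ ⊥ := by
  intro h
  have h1 := card_K
  rw [h, Subgroup.card_bot] at h1
  omega

theorem mod_thirteen {O : Finset (Fin 4060)} (hb : q1 ∈ O) (hO : ∀ x ∈ O, x ∈ orbit K q1)
    (hst : ∀ g ∈ K, g q1 = q1 → ∀ x ∈ O, g x ∈ O) : O.card % 13 = 1 := by
  have hp : Fact (Nat.Prime 13) := ⟨by norm_num⟩
  set h : Equiv.Perm (Fin 4060) := perm kmh.1 with hh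
  have hK1 : h ∈ K1 := kmh.2
  have hpow : h ^ 13 = 1 := pow_eq_one (kmh.mono (inf_le_left.trans K_le_H)) powh
  let α : SubMulAction (Subgroup.zpowers h) (Fin 4060) :=
    { carrier := {x | x ∈ O}
      smul_mem' := by
        rintro ⟨c, hc⟩ x hx
        have hcK : c ∈ K1 := (Subgroup.zpowers_le.2 hK1) hc
        exact hst c hcK.1 hcK.2 x hx }
  have hP : IsPGroup 13 (Subgroup.zpowers h) := by
    rw [IsPGroup.iff_card]
    have h3 : orderOf h ∣ 13 ^ 1 := orderOf_dvd_of_pow_eq_one (by rw [pow_one]; exact hpow)
    obtain ⟨j, _, hj⟩ := (Nat.dvd_prime_pow hp.out).1 h3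
    exact ⟨j, by rw [Nat.card_zpowers, hj]⟩
  have key := hP.card_modEq_card_fixedPoints α
  have h1 : Nat.card α = O.card := by
    have : Nat.card {x // x ∈ O} = O.card := by
      rw [Nat.card_eq_fintype_card, Fintype.card_coe]
    exact this
  have h2 : Nat.card (fixedPoints (Subgroup.zpowers h) α) = 1 := by
    rw [Nat.card_eq_one_iff_unique]
    refine ⟨⟨?_⟩, ⟨⟨⟨q1, hb⟩, ?_⟩⟩⟩
    · rintro ⟨⟨x, hx⟩, hx'⟩ ⟨⟨y, hy⟩, hy'⟩
      have aux : ∀ (x : Fin 4060) (hx : x ∈ O), (⟨x, hx⟩ : α) ∈ fixedPoints (Subgroup.zpowers h) α → x = q1 := by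
        intro x hx hf
        have e1 : h x = x := congrArg Subtype.val (hf ⟨h, Subgroup.mem_zpowers h⟩)
        have e2 : (app h13 x : ℕ) = x := congrArg Fin.val e1
        rw [← appF_eq] at e2
        have e3 : tb m300 x = true := by rw [tb_eq]; exact orbit_sub x (hO x hx)
        exact Fin.ext (fixChk_spec 4060 fix_all x x.2 e3 e2)
      apply Subtype.ext
      apply Subtype.ext
      exact (aux x hx hx').trans (aux y hy hy').symm
    · rintro ⟨c, hc⟩
      have hcK : c ∈ K1 := (Subgroup.zpowers_le.2 hK1) hc
      apply Subtype.ext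
      exact hcK.2
  rw [h1, h2] at key
  exact key

/-- **The stabiliser is simple.** -/
theorem isSimpleGroup_K : IsSimpleGroup K := by
  apply isSimpleGroup_of_orbit K q1 K_ne_bot
  · intro g hg hfix
    have h1 : g q1 = q1 := hfix q1 (mem_orbit_self q1)
    have h2 : g q2 = q2 := by
      apply hfix
      rw [orbit_eq]
      have := m_q2
      rwa [tb_eq] at this
    have h : g ∈ K2 := ⟨⟨hg, h1⟩, h2⟩
    have h5 : K2 = ⊥ := Subgroup.card_eq_one.1 card_K2
    rw [h5] at h
    exact Subgroup.mem_bot.1 h
  · intro O hb hO hst hd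
    have h1 := mod_thirteen hb hO hst
    rw [card_orbit] at hd ⊢
    have h2 : O.card ≤ 300 := Nat.le_of_dvd (by norm_num) hd
    generalize O.card = c at h1 hd h2
    have key : ∀ c ≤ 300, c ∣ 300 → c % 13 = 1 → c = 1 ∨ c = 300 := by decide
    exact key c h2 hd h1
  · intro N _ _ hN
    have h1 : Nat.card ↥(K ⊓ stabilizer (Equiv.Perm (Fin 4060)) q1) = 26 := card_K1
    have h2 : K = Subgroup.closure {perm mema.1, perm memb.1} := rfl
    rw [h2, Subgroup.closure_le]
    rintro g (rfl | rfl)
    · exact hN _ kma.2 3 (by rw [h1]; norm_num) (pow_eq_one (kma.mono K_le_H) powa)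
    · exact hN _ kmb.2 3 (by rw [h1]; norm_num) (pow_eq_one (kmb.mono K_le_H) powb)

/-- a simple subgroup of order 7800 -/
theorem exists_simple : ∃ M : Subgroup T, IsSimpleGroup M ∧ Nat.card M = 7800 := by
  have hKT : K ≤ T := K_le.trans inf_le_left
  have e := Subgroup.subgroupOfEquivOfLe hKT
  have := isSimpleGroup_K
  refine ⟨K.subgroupOf T, ?_, ?_⟩
  · have : Nontrivial ↥(K.subgroupOf T) := e.toEquiv.nontrivial
    exact IsSimpleGroup.isSimpleGroup_of_surjective e.symm.toMonoidHom e.symm.surjective
  · rw [Nat.card_congr e.toEquiv, card_K]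

end Cfsg.Agent.H660.TitsL25
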