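import Cfsg.Prelude.Def_Blocks
import Cfsg.Agent.Characters.Core
import Cfsg.Agent.Blocks.Basic
import Cfsg.Agent.Blocks.Covering

/-!
# Transport of irreducible characters and blocks along a group isomorphism
-/

set_option autoImplicit false
set_option linter.unusedSectionVars false

open Cfsg
open scoped ComplexConjugate

namespace Cfsg.Agent.H660.BlockTransport

variable {G H : Type*} [Group G] [Group H]

/-- Transport of an irreducible character along an isomorphism. -/
noncomputable def irrMap (e : G ≃* H) (χ : IrrCharacter G) : IrrCharacter H :=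
  ⟨fun x => (χ : G → ℂ) (e.symm x),
    Cfsg.Agent.Characters.Core.isIrr_comp e.symm.toMonoidHom e.symm.surjective χ.2⟩

theorem irrMap_apply (e : G ≃* H) (χ : IrrCharacter G) (x : H) :
    (irrMap e χ : H → ℂ) x = (χ : G → ℂ) (e.symm x) := rfl

theorem irrMap_symm_irrMap (e : G ≃* H) (χ : IrrCharacter G) : irrMap e.symm (irrMap e χ) = χ := by
  apply Subtype.ext
  funext x
  rw [irrMap_apply, irrMap_apply]
  simp

theorem irrMap_irrMap_symm (e : G ≃* H) (χ : IrrCharacter H) : irrMap e (irrMap e.symm χ) = χ := by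
  apply Subtype.ext
  funext x
  rw [irrMap_apply, irrMap_apply]
  simp

theorem irrMap_injective (e : G ≃* H) : Function.Injective (irrMap e) := fun a b h => by
  rw [← irrMap_symm_irrMap e a, h, irrMap_symm_irrMap]

theorem irrMap_one (e : G ≃* H) (χ : IrrCharacter G) :
    (irrMap e χ : H → ℂ) 1 = (χ : G → ℂ) 1 := by
  rw [irrMap_apply, map_one]

theorem charDegree_irrMap (e : G ≃* H) (χ : IrrCharacter G) :
    charDegree (irrMap e χ : H → ℂ) = charDegree (χ : G → ℂ) := by
  unfold charDegree
  rw [irrMap_one]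

theorem centralChar_irrMap (e : G ≃* H) (χ : IrrCharacter G) (x : H) :
    centralChar (irrMap e χ : H → ℂ) x = centralChar (χ : G → ℂ) (e.symm x) :=
  Cfsg.Agent.Blocks.Covering.centralChar_comp_equiv e.symm (χ : G → ℂ) x

theorem sameBlock_irrMap {M : Ideal AlgInt} (e : G ≃* H) {χ ψ : IrrCharacter G} :
    SameBlock M (irrMap e χ : H → ℂ) (irrMap e ψ : H → ℂ) ↔
      SameBlock M (χ : G → ℂ) (ψ : G → ℂ) := by
  constructor
  · intro h g
    have := h (e g)
    rw [centralChar_irrMap, centralChar_irrMap, e.symm_apply_apply] at this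
    exact this
  · intro h x
    rw [centralChar_irrMap, centralChar_irrMap]
    exact h _

/-- Transport of a set of irreducible characters. -/
def blockMap (e : G ≃* H) (B : Set (IrrCharacter G)) : Set (IrrCharacter H) :=
  {ψ | irrMap e.symm ψ ∈ B}

theorem mem_blockMap {e : G ≃* H} {B : Set (IrrCharacter G)} {ψ : IrrCharacter H} :
    ψ ∈ blockMap e B ↔ irrMap e.symm ψ ∈ B := Iff.rfl

theorem irrMap_mem_blockMap {e : G ≃* H} {B : Set (IrrCharacter G)} {χ : IrrCharacter G} :
    irrMap e χ ∈ blockMap e B ↔ χ ∈ B := by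
  rw [mem_blockMap, irrMap_symm_irrMap]

theorem blockMap_eq_image (e : G ≃* H) (B : Set (IrrCharacter G)) :
    blockMap e B = irrMap e '' B := by
  ext ψ
  constructor
  · intro h
    exact ⟨_, h, irrMap_irrMap_symm e ψ⟩
  · rintro ⟨χ, hχ, rfl⟩
    exact irrMap_mem_blockMap.2 hχ

theorem isPBlock_blockMap {M : Ideal AlgInt} (e : G ≃* H) {B : Set (IrrCharacter G)}
    (hB : IsPBlock M B) : IsPBlock M (blockMap e B) := by
  obtain ⟨χ, rfl⟩ := hB
  refine ⟨irrMap e χ, ?_⟩
  ext ψ
  rw [mem_blockMap]
  show SameBlock M (χ : G → ℂ) (irrMap e.symm ψ : G → ℂ) ↔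
    SameBlock M (irrMap e χ : H → ℂ) (ψ : H → ℂ)
  rw [← sameBlock_irrMap e, irrMap_irrMap_symm]

theorem image_factorization_blockMap (p : ℕ) (e : G ≃* H) (B : Set (IrrCharacter G)) :
    (fun ψ : IrrCharacter H => (charDegree (ψ : H → ℂ)).factorization p) '' (blockMap e B) =
      (fun ψ : IrrCharacter G => (charDegree (ψ : G → ℂ)).factorization p) '' B := by
  rw [blockMap_eq_image, Set.image_image]
  refine Set.image_congr fun χ _ => ?_
  rw [charDegree_irrMap]

theorem blockHeight_blockMap (p : ℕ) (e : G ≃* H) (B : Set (IrrCharacter G))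
    (χ : IrrCharacter G) :
    blockHeight p (blockMap e B) (irrMap e χ : H → ℂ) = blockHeight p B (χ : G → ℂ) := by
  unfold blockHeight
  rw [image_factorization_blockMap, charDegree_irrMap]

theorem blockDefect_blockMap (p : ℕ) (e : G ≃* H) (B : Set (IrrCharacter G)) :
    blockDefect p (blockMap e B) = blockDefect p B := by
  unfold blockDefect
  rw [image_factorization_blockMap, Nat.card_congr e.toEquiv]

theorem blockCoeff_blockMap (e : G ≃* H) (B : Set (IrrCharacter G)) (x : H) :
    blockCoeff (blockMap e B) x = blockCoeff B (e.symm x) := by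
  unfold blockCoeff
  rw [blockMap_eq_image, finsum_mem_image ((irrMap_injective e).injOn),
    Nat.card_congr e.toEquiv]
  congr 1
  refine finsum_mem_congr rfl fun χ _ => ?_
  rw [irrMap_one, irrMap_apply]

theorem isDefectClass_blockMap {M : Ideal AlgInt} (e : G ≃* H) {B : Set (IrrCharacter G)}
    {g : G} (hg : IsDefectClass M B g) : IsDefectClass M (blockMap e B) (e g) := by
  refine ⟨?_, ?_, ?_⟩
  · rw [blockCoeff_blockMap, e.symm_apply_apply]
    exact hg.1
  · rw [blockCoeff_blockMap, e.symm_apply_apply]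
    exact hg.2.1
  · intro ψ hψ
    have h := hg.2.2 _ (mem_blockMap.1 hψ)
    have h2 := centralChar_irrMap e (irrMap e.symm ψ) (e g)
    rw [irrMap_irrMap_symm, e.symm_apply_apply] at h2
    rw [h2]
    exact h

theorem centralizer_map (e : G ≃* H) (g : G) :
    (Subgroup.centralizer ({g} : Set G)).map e.toMonoidHom =
      Subgroup.centralizer ({e g} : Set H) := by
  ext x
  rw [Subgroup.mem_map_equiv, Subgroup.mem_centralizer_singleton_iff,
    Subgroup.mem_centralizer_singleton_iff]
  constructor
  · intro h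
    have := congrArg e h
    simpa using this
  · intro h
    have := congrArg e.symm h
    simpa using this

theorem isDefectGroup_blockMap [Finite G] {p : ℕ} [Fact p.Prime] {M : Ideal AlgInt}
    (e : G ≃* H) {B : Set (IrrCharacter G)} {D : Subgroup G} (hD : IsDefectGroup p M B D) :
    IsDefectGroup p M (blockMap e B) (D.map e.toMonoidHom) := by
  obtain ⟨g, hg, hD⟩ := hD
  refine ⟨e g, isDefectClass_blockMap e hg, ?_⟩
  have h1 : Cfsg.Agent.Blocks.Basic.IsSylowCentralizer p g D := hD
  show Cfsg.Agent.Blocks.Basic.IsSylowCentralizer p (e g) (D.map e.toMonoidHom)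
  rw [Cfsg.Agent.Blocks.Basic.isSylowCentralizer_iff] at h1 ⊢
  obtain ⟨h2, h3, h4⟩ := h1
  refine ⟨h2.map _, ?_, ?_⟩
  · rw [← centralizer_map]
    exact Subgroup.map_mono h3
  · intro Q hQ hQC hDQ
    have hQ' : Q.map e.symm.toMonoidHom ≤ Subgroup.centralizer ({g} : Set G) := by
      have := Subgroup.map_mono (f := e.symm.toMonoidHom) hQC
      rwa [centralizer_map, e.symm_apply_apply] at this
    have hD' : D ≤ Q.map e.symm.toMonoidHom := by
      intro x hx
      have h5 : e x ∈ Q := hDQ ⟨x, hx, rfl⟩
      exact ⟨e x, h5, by simp⟩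
    have h6 := h4 _ (hQ.map _) hQ' hD'
    rw [← h6, Subgroup.map_map]
    have : e.toMonoidHom.comp e.symm.toMonoidHom = MonoidHom.id H := by
      ext x
      simp
    rw [this, Subgroup.map_id]

theorem classInner_comp [Fintype G] [Fintype H] (e : G ≃* H) (f f' : H → ℂ) :
    classInner (fun x : G => f (e x)) (fun x : G => f' (e x)) = classInner f f' := by
  unfold classInner
  rw [Nat.card_congr e.toEquiv]
  congr 1
  exact e.toEquiv.sum_comp (fun x => f x * conj (f' x))

end Cfsg.Agent.H660.BlockTransport
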