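import Cfsg.Agent.H660.JSideTab
import Cfsg.Agent.H820.Par.Base

/-!
# `J₃`: the data of the centraliser of an involution used for S2198 (helper660)

`jside : JSideStmt`.
-/

set_option autoImplicit false

namespace Cfsg.Agent.H660.JSide

open Cfsg.Spor Cfsg.Agent.J2Type.Model Cfsg.Agent.J3Type.OneClass Cfsg.Agent.KFacts.J3W Subgroup
open Cfsg.Agent.J3.Core Cfsg.Agent.J3.Elts Cfsg.Agent.J2Type.CStruct Cfsg.Agent.H820.Par Cfsg.Agent.KFacts
open Cfsg.Agent.KFacts.J3

section Five

variable {K : Type*} [Group K] {z : K} {v : Fin 5 → K}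

theorem e_mul' (h2 : ∀ i, v i * v i = 1) (i j l : Fin 5) : v i * v j * (v j * v l) = v i * v l := by
  calc v i * v j * (v j * v l) = v i * (v j * v j) * v l := by group
    _ = v i * v l := by rw [h2, mul_one]

theorem e_sq' (h2 : ∀ i, v i * v i = 1) (ha : ∀ i j, i ≠ j → v i * v j = z * (v j * v i)) (i j : Fin 5)
    (hij : i ≠ j) : v i * v j * (v i * v j) = z := by
  calc v i * v j * (v i * v j) = z * (v j * v i) * (v i * v j) := by rw [ha i j hij]
    _ = z * (v j * (v i * v i) * v j) := by group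
    _ = z := by rw [h2, mul_one, h2, mul_one]

theorem swap_one (hz2 : z * z = 1) (hz : ∀ i, v i * z = z * v i)
    (ha : ∀ i j, i ≠ j → v i * v j = z * (v j * v i)) {i j l : Fin 5} (hi : i ≠ l) (hj : j ≠ l) :
    v i * v j * v l = v l * (v i * v j) := by
  calc v i * v j * v l = v i * (v j * v l) := by group
    _ = v i * (z * (v l * v j)) := by rw [ha j l hj]
    _ = (v i * z) * v l * v j := by group
    _ = z * (v i * v l) * v j := by rw [hz]; group
    _ = z * (z * (v l * v i)) * v j := by rw [ha i l hi]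
    _ = (z * z) * (v l * (v i * v j)) := by group
    _ = v l * (v i * v j) := by rw [hz2, one_mul]

theorem e_comm' (hz2 : z * z = 1) (hz : ∀ i, v i * z = z * v i)
    (ha : ∀ i j, i ≠ j → v i * v j = z * (v j * v i)) (i j l m : Fin 5) (h1 : i ≠ l) (h2 : i ≠ m) (h3 : j ≠ l)
    (h4 : j ≠ m) : v i * v j * (v l * v m) = v l * v m * (v i * v j) := by
  calc v i * v j * (v l * v m) = (v i * v j * v l) * v m := by group
    _ = v l * (v i * v j * v m) := by rw [swap_one hz2 hz ha h1 h3]; group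
    _ = v l * v m * (v i * v j) := by rw [swap_one hz2 hz ha h2 h4]; group

end Five

theorem jside : JSideStmt := by
  intro K _ h
  obtain ⟨F, _, _, ω, hF, hω, ⟨e⟩⟩ := h
  have H := good_of_card hF hω
  obtain ⟨G⟩ := exists_gens hF H
  let f : threeJ3 F ω →* K := e.symm.toMonoidHom.comp (QuotientGroup.mk' (center (threeJ3 F ω)))
  have hf : Function.Surjective f := e.symm.surjective.comp (QuotientGroup.mk'_surjective _)
  have hk : f.ker = center _ := by
    ext x
    rw [MonoidHom.mem_ker]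
    show e.symm (QuotientGroup.mk' _ x) = 1 ↔ _
    rw [map_eq_one_iff _ e.symm.injective]
    exact QuotientGroup.eq_one_iff x
  have hcK := card_K hF H hf hk
  have hfin : Finite K := by
    apply Nat.finite_of_card_ne_zero
    rw [hcK]; norm_num
  obtain ⟨⟨-, hcard, -⟩, Q, ρ, M⟩ := j3_model (G := G) hF H hf hk
  let u : centralizer ({f (zz G)} : Set K) := ⟨f (uu G), mem_centralizer_singleton_iff.2 (hmul (uz H))⟩
  have hconj : ∀ {x : threeJ3 F ω}, (∃ g, g * zz G = x * g) → ∃ g : K, g * f (zz G) * g⁻¹ = f x := by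
    rintro x ⟨g, hg⟩
    refine ⟨f g, ?_⟩
    rw [← map_mul, hg, map_mul, mul_inv_cancel_right]
  have huv : ∀ i, u * (⟨f (vv G i), mem_centralizer_singleton_iff.2 (hmul (vz H i))⟩ : centralizer ({f (zz G)} : Set K)) =
      zp (zc (f (zz G))) (sg (Cfsg.Agent.J3.Tab.get 0 ua i)) *
      (⟨f (vv G ((Equiv.swap 0 3 * Equiv.swap 2 4 : Equiv.Perm (Fin 5)) i)),
        mem_centralizer_singleton_iff.2 (hmul (vz H _))⟩ : centralizer ({f (zz G)} : Set K)) * u := by
    intro i
    apply Subtype.ext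
    have h1 := congrArg f (ua_eq (G := G) H i)
    rw [map_mul, map_mul, map_mul, f_zp] at h1
    have h2 : ∀ a, ((zp (zc (f (zz G))) a : centralizer ({f (zz G)} : Set K)) : K) = zp (f (zz G)) a := by
      intro a
      rcases zmod2_cases a with rfl | rfl
      · rw [zp_zero, zp_zero]; rfl
      · rw [zp_one, zp_one]
    show f (uu G) * f (vv G i) = ((zp (zc (f (zz G))) (sg (Cfsg.Agent.J3.Tab.get 0 ua i)) : centralizer ({f (zz G)} : Set K)) : K) *
      f (vv G _) * f (uu G)
    rw [h2]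
    exact h1
  have huQ : u ∉ Q := by
    rw [M.mem_Q]
    intro h1
    have h2 := M.conj u 0
    rw [mul_inv_eq_iff_eq_mul, huv 0, h1] at h2
    have h3 := (M.v_inj _ _ _ _ (mul_right_cancel h2)).2
    exact absurd h3 (by decide)
  have hzz : f (zz G) * f (zz G) = 1 := by rw [← map_mul, zsq H, map_one]
  have huu : u * u = 1 := by
    -- `u` is conjugate to `z`
    obtain ⟨g, hg⟩ := hconj (uconj (G := G) H)
    apply Subtype.ext
    show f (uu G) * f (uu G) = 1
    rw [← hg]
    calc g * f (zz G) * g⁻¹ * (g * f (zz G) * g⁻¹) = g * (f (zz G) * f (zz G)) * g⁻¹ := by group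
      _ = 1 := by rw [hzz]; group
  have hidx : ¬ 2 ∣ (centralizer ({f (zz G)} : Set K)).index := by
    have h1 := Subgroup.card_mul_index (centralizer ({f (zz G)} : Set K))
    rw [hcard, hcK] at h1
    omega
  have h2 : ∀ i, f (vv G i) * f (vv G i) = 1 := fun i => by rw [← map_mul, vsq H, map_one]
  have hz : ∀ i, f (vv G i) * f (zz G) = f (zz G) * f (vv G i) := fun i => hmul (vz H i)
  have ha : ∀ i j, i ≠ j → f (vv G i) * f (vv G j) = f (zz G) * (f (vv G j) * f (vv G i)) := fun i j hij => by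
    rw [← map_mul, vanti H i j hij, map_mul, map_mul]
  have hK : ∀ (σ : alternatingGroup (Fin 5)) (i : Fin 5), f (KK G H σ) * f (vv G i) * (f (KK G H σ))⁻¹ =
      f (vv G ((σ : Equiv.Perm (Fin 5)) i)) := fun σ i => by
    rw [mul_inv_eq_iff_eq_mul]
    exact hmul (KK_v H σ i)
  have hprod : f (vv G 0) * f (vv G 1) * f (vv G 2) * f (vv G 3) * f (vv G 4) = 1 := by
    rw [← map_mul, ← map_mul, ← map_mul, ← map_mul, vprod H, map_one]
  let C : JC (f (zz G)) :=
    { J := ⊤
      e := fun i j => f (vv G i) * f (vv G j)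
      k := f.comp (KK G H)
      e_mem := fun _ _ => mem_top _
      k_mem := fun _ => mem_top _
      z_ne := f_ne H hk
      e_mul := e_mul' h2
      e_sq := e_sq' h2 ha
      e_comm := e_comm' hzz hz ha
      k_conj := fun σ i j => by
        show f (KK G H σ) * (f (vv G i) * f (vv G j)) * (f (KK G H σ))⁻¹ = _
        rw [← hK σ i, ← hK σ j]
        group
      inv := fun t _ htt ht1 =>
        OneClassOf.one_class hidx M (hconj (vconj (G := G) H 0)) huu huQ (hconj (uconj (G := G) H)) ht1 htt }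
  have hu4 : C.u 4 = f (vv G 4) := by
    show f (vv G 0) * f (vv G 1) * (f (vv G 2) * f (vv G 3)) = f (vv G 4)
    have h3 : f (vv G 0) * f (vv G 1) * f (vv G 2) * f (vv G 3) = (f (vv G 4))⁻¹ := eq_inv_of_mul_eq_one_left hprod
    rw [← mul_assoc, h3]
    exact inv_eq_of_mul_eq_one_right (h2 4)
  have hx0 : C.e 1 2 * C.e 3 4 = f (vv G 0) := by
    show f (vv G 1) * f (vv G 2) * (f (vv G 3) * f (vv G 4)) = f (vv G 0)
    have h3 : f (vv G 0) * (f (vv G 1) * f (vv G 2) * (f (vv G 3) * f (vv G 4))) = 1 := by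
      rw [← hprod]
      simp only [mul_assoc]
    calc f (vv G 1) * f (vv G 2) * (f (vv G 3) * f (vv G 4))
        = (f (vv G 0))⁻¹ := eq_inv_of_mul_eq_one_right h3
      _ = f (vv G 0) := inv_eq_of_mul_eq_one_right (h2 0)
  have hpq : ∀ i j, f (pq G i j) = f (gg G) * C.e i j * (f (gg G))⁻¹ := fun i j => by
    show f (gg G * (vv G i * vv G j * gi G)) = f (gg G) * (f (vv G i) * f (vv G j)) * (f (gg G))⁻¹
    rw [gi_eq H]
    simp only [map_mul, map_inv, mul_assoc]
  have heO : ∀ i j, C.e i j ∈ C.O := fun i j => subset_closure ⟨(i, j), rfl⟩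
  let D : JD (f (zz G)) :=
    { toJC := C
      g := f (gg G)
      p := f (pq G 0 2)
      q := f (pq G 0 3)
      x := C.e 1 2 * C.e 3 4
      g_z := by
        rw [hu4, mul_inv_eq_iff_eq_mul]
        exact hmul (gg_z H)
      p_mem := ⟨C.e 0 2, heO 0 2, hpq 0 2⟩
      q_mem := ⟨C.e 0 3, heO 0 3, hpq 0 3⟩
      p_z := hmul (pq_z2 H)
      q_z := hmul (pq_z3 H)
      x_mem := mul_mem (heO 1 2) (heO 3 4)
      x_u := by
        rw [hu4, hx0, ha 0 4 (by decide), mul_assoc (f (vv G 4)), hz 0, ← mul_assoc (f (vv G 4)), hz 4, mul_assoc]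
      prod := by
        right
        rw [hu4, hx0]
        have h3 := congrArg f (pq_prod (G := G) H)
        rw [pq_inv H 0 2, pq_inv H 0 3] at h3
        simp only [map_mul, map_inv] at h3
        rw [← h3]
        group }
  refine ⟨f (zz G), D, f (bl G 10), ?_⟩
  have hx : f (zz G) * (f (bl G 10) * f (zz G) * (f (bl G 10))⁻¹) = f (xx G) := by
    rw [x_eq H]
    simp only [map_mul, map_inv]
  rw [hx]
  have h9 : (f (xx G)) ^ (3 ^ (1 + 1)) = 1 := by
    rw [← map_pow]
    show f (xx G ^ 9) = 1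
    rw [x9 H, map_one]
  have h3 : ¬ (f (xx G)) ^ (3 ^ 1) = 1 := by
    rw [← map_pow]
    intro h4
    apply x3 (G := G) H
    rw [← hk]
    exact h4
  have : Fact (Nat.Prime 3) := ⟨Nat.prime_three⟩
  rw [orderOf_eq_prime_pow h3 h9]
  norm_num

end Cfsg.Agent.H660.JSide
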