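import Cfsg.Agent.KFacts.J3

/-!
# The complement `A₅` of `2^{1+4}_-` in the centraliser of an involution of `J₃` (helper660, S2198)

Corrected elements `yy k` of `C(z)` in `3·J₃` permuting the five involutions `vv i` without signs and generating a group
of order `60`; the homomorphism `KK : A₅ → 3·J₃`; the data of case 2; an element `z * z^g` of order `9`.
-/

set_option autoImplicit false

namespace Cfsg.Agent.H660.JSide

open Cfsg.Spor Cfsg.Agent.J3.Core Cfsg.Agent.J3.Tab Cfsg.Agent.J3.Mono Cfsg.Agent.J3.Elts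
open Cfsg.Agent.Lib.BitSet Cfsg.Agent.J3.Order Cfsg.Agent.J2Type.Model Cfsg.Agent.KFacts.J3W

/-! ### tables -/

/-- tables of the three elements -/
def yTs : List (List ℕ) := [
  [87381, 174762, 172214, 258267, 10910, 16359, 45674, 54207, 195855, 218629, 231375, 117061, 137450, 207999, 228147,
    105745, 118515, 149329],
  [8381, 12502, 28306, 47075, 189574, 227531, 215167, 101525, 75020, 145924, 21976, 43628, 38719, 59669, 95332,
    170168, 82352, 164560],
  [183809, 214786, 184340, 221224, 3668, 1960, 104272, 190880, 122035, 156881, 144994, 203699, 219460, 110216, 152266,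
    238415, 60751, 30341]]

def yT (k : ℕ) : List ℕ := get [] yTs k

/-- tables of words -/
def yWT : List ℕ → List ℕ
  | [] => tS 0
  | k :: w => compT (yT k) (yWT w)

/-- the word of an even permutation -/
def kw (σ : Equiv.Perm (Fin 5)) : List ℕ := get [] aw (25 * (σ 0).val + 5 * (σ 1).val + (σ 2).val)

theorem chk_y0 : beqL (compT (get [] vTs 3) (compT (get [] vTs 4) (get [] cTs 0))) (yT 0) = true := by
  decide +kernel

theorem chk_y1 : beqL (compT (get [] vTs 1) (get [] cTs 1)) (yT 1) = true := by decide +kernel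

theorem chk_y2 : beqL (compT (bT 24) (compT (get [] vTs 0) (get [] cTs 2))) (yT 2) = true := by decide +kernel

theorem chk_yv : ∀ k : Fin 3, ∀ i : Fin 5, beqL (cols (compT (yT k) (get [] vTs i)))
    (cols (compT (get [] vTs (pk k i)) (yT k))) = true := by
  decide +kernel

theorem chk_mul : ∀ k : Fin 3, ∀ σ : Equiv.Perm (Fin 5), Equiv.Perm.sign σ = 1 →
    beqL (cols (compT (yT k) (yWT (kw σ)))) (cols (yWT (kw (pk k * σ)))) = true := by
  decide +kernel

theorem chk_sign : ∀ k : Fin 3, Equiv.Perm.sign (pk k) = 1 := by decide +kernel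

/-- the inverse of `gw` -/
def giw : List ℕ := [2, 10, 29, 11, 4, 29, 3]

/-- the word of `g` -/
def gw : List ℕ := get [] vw 4

theorem chk_gok : okW gw = true ∧ okW giw = true := by decide +kernel

def gT' : List ℕ := evT gw
def giT : List ℕ := evT giw

theorem chk_gi : beqL (cols (compT gT' giT)) (cols (tS 0)) = true := by decide +kernel

/-- `g (v i v j) g⁻¹` -/
def pT' (i j : ℕ) : List ℕ := compT gT' (compT (compT (get [] vTs i) (get [] vTs j)) giT)

theorem chk_pz : ∀ j : Fin 2, beqL (cols (compT (pT' 0 (j.val + 2)) (bT 24))) (cols (compT (bT 24) (pT' 0 (j.val + 2)))) = true := by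
  decide +kernel

theorem chk_prod : beqL (cols (compT (get [] vTs 0) (compT (compT (pT' 0 2) (compT (get [] vTs 0) (pT' 2 0)))
    (compT (compT (pT' 0 3) (compT (get [] vTs 0) (pT' 3 0)))
    (compT (compT (pT' 0 2) (pT' 0 3)) (compT (get [] vTs 0) (compT (pT' 3 0) (pT' 2 0))))))))
    (cols (compT (get [] vTs 4) (bT 24))) = true := by
  decide +kernel

/-- `z * z^g`, of order `9` -/
def xT : List ℕ := compT (bT 24) (evT [10, 24, 11])

def x3T : List ℕ := compT xT (compT xT xT)

theorem chk_x9 : beqL (cols (compT x3T (compT x3T x3T))) (cols (tS 0)) = true := by decide +kernel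

theorem chk_x3 : ∃ z : F9, (cols (compT x3T (bT 12))).getD (idx z) 0 ≠ (cols (compT (bT 12) x3T)).getD (idx z) 0 := by
  decide +kernel

theorem chk_xi : beqL (cols (compT (bT 10) (bT 11))) (cols (tS 0)) = true := by decide +kernel

/-! ### elements -/

section

variable {F : Type*} [Field F] {ω : F} {G : Gens F ω}

/-- three elements of `C(z)` permuting the `v i` without signs -/
def yy (G : Gens F ω) (k : ℕ) : threeJ3 F ω :=
  if k = 0 then vv G 3 * (vv G 4 * cc G 0) else if k = 1 then vv G 1 * cc G 1 else zz G * (vv G 0 * cc G 2)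

theorem rep_y (H : Good ω) {k : ℕ} (hk : k < 3) : RepG ω (yT k) (yy G k) := by
  interval_cases k
  · have h := (rep_v (G := G) H 3).mul ((rep_v (G := G) H 4).mul (rep_c (G := G) H (k := 0) (by norm_num)))
    exact (beqL_eq chk_y0) ▸ h
  · have h := (rep_v (G := G) H 1).mul (rep_c (G := G) H (k := 1) (by norm_num))
    exact (beqL_eq chk_y1) ▸ h
  · have h := (rep_z (G := G) H).mul ((rep_v (G := G) H 0).mul (rep_c (G := G) H (k := 2) (by norm_num)))
    exact (beqL_eq chk_y2) ▸ h

def yW (G : Gens F ω) : List ℕ → threeJ3 F ω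
  | [] => 1
  | k :: w => yy G k * yW G w

theorem rep_yW (H : Good ω) : ∀ w : List ℕ, (w.all fun k => Nat.blt k 3) = true → RepG ω (yWT w) (yW G w)
  | [], _ => repG_one H
  | k :: w, h => by
    rw [List.all_cons, Bool.and_eq_true] at h
    exact (rep_y H (Nat.le_of_ble_eq_true h.1)).mul (rep_yW H w h.2)

theorem kw_all (σ : Equiv.Perm (Fin 5)) : ((kw σ).all fun k => Nat.blt k 3) = true := by
  have hlt : 25 * (σ 0).val + 5 * (σ 1).val + (σ 2).val < 125 := by
    have := (σ 0).isLt
    have := (σ 1).isLt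
    have := (σ 2).isLt
    omega
  exact List.all_eq_true.1 chk_aw _ (List.mem_range.2 hlt)

theorem sign_pkW : ∀ w : List ℕ, (w.all fun k => Nat.blt k 3) = true → Equiv.Perm.sign (pkW w) = 1
  | [], _ => map_one _
  | k :: w, h => by
    rw [List.all_cons, Bool.and_eq_true] at h
    have h1 := chk_sign ⟨k, Nat.le_of_ble_eq_true h.1⟩
    show Equiv.Perm.sign (pk k * pkW w) = 1
    rw [map_mul, sign_pkW w h.2, mul_one]
    exact h1

theorem y_word (H : Good ω) : ∀ w : List ℕ, (w.all fun k => Nat.blt k 3) = true → yW G w = yW G (kw (pkW w))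
  | [], _ => by
    have : kw (pkW []) = [] := by decide +kernel
    rw [this]
  | k :: w, h => by
    have h' := h
    rw [List.all_cons, Bool.and_eq_true] at h
    have hk : k < 3 := Nat.le_of_ble_eq_true h.1
    have ih := y_word H w h.2
    have h1 := chk_mul ⟨k, hk⟩ (pkW w) (sign_pkW w h.2)
    have r1 := (rep_y (G := G) H hk).mul (rep_yW (G := G) H (kw (pkW w)) (kw_all _))
    have r2 := rep_yW (G := G) H (kw (pk k * pkW w)) (kw_all _)
    have h2 := r1.ext r2 (beqL_eq h1)
    show yy G k * yW G w = _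
    rw [ih, h2]
    rfl

theorem yW_append (a b : List ℕ) : yW G (a ++ b) = yW G a * yW G b := by
  induction a with
  | nil => rw [List.nil_append]; exact (one_mul _).symm
  | cons k a ih =>
    show yy G k * yW G (a ++ b) = yy G k * yW G a * yW G b
    rw [ih, mul_assoc]

theorem pkW_append (a b : List ℕ) : pkW (a ++ b) = pkW a * pkW b := by
  induction a with
  | nil => rw [List.nil_append]; exact (one_mul _).symm
  | cons k a ih =>
    show pk k * pkW (a ++ b) = pk k * pkW a * pkW b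
    rw [ih, mul_assoc]

/-- the complement `A₅` -/
def KK (G : Gens F ω) (H : Good ω) : alternatingGroup (Fin 5) →* threeJ3 F ω where
  toFun σ := yW G (kw σ.1)
  map_one' := by
    have : kw (1 : Equiv.Perm (Fin 5)) = [] := by decide +kernel
    show yW G (kw (1 : Equiv.Perm (Fin 5))) = 1
    rw [this]
    rfl
  map_mul' σ τ := by
    show yW G (kw (σ.1 * τ.1)) = yW G (kw σ.1) * yW G (kw τ.1)
    have h1 := chk_A5 σ.1 (Equiv.Perm.mem_alternatingGroup.1 σ.2)
    have h2 := chk_A5 τ.1 (Equiv.Perm.mem_alternatingGroup.1 τ.2)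
    have h3 : pkW (kw σ.1 ++ kw τ.1) = σ.1 * τ.1 := by
      rw [pkW_append]
      exact congrArg₂ (· * ·) h1.symm h2.symm
    have h4 := y_word (G := G) H (kw σ.1 ++ kw τ.1) (by rw [List.all_append, kw_all, kw_all]; rfl)
    rw [h3, yW_append] at h4
    exact h4.symm

theorem yy_v (H : Good ω) {k : ℕ} (hk : k < 3) (i : Fin 5) : yy G k * vv G i = vv G (pk k i) * yy G k :=
  ((rep_y H hk).mul (rep_v H i)).ext ((rep_v H _).mul (rep_y H hk)) (beqL_eq (chk_yv ⟨k, hk⟩ i))

theorem yW_v (H : Good ω) : ∀ w : List ℕ, (w.all fun k => Nat.blt k 3) = true → ∀ i : Fin 5,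
    yW G w * vv G i = vv G (pkW w i) * yW G w
  | [], _, i => by
    show 1 * vv G i = vv G i * 1
    rw [one_mul, mul_one]
  | k :: w, h, i => by
    rw [List.all_cons, Bool.and_eq_true] at h
    have hk : k < 3 := Nat.le_of_ble_eq_true h.1
    show yy G k * yW G w * vv G i = vv G (pk k (pkW w i)) * (yy G k * yW G w)
    rw [mul_assoc, yW_v H w h.2 i, ← mul_assoc, yy_v H hk, mul_assoc]

theorem KK_v (H : Good ω) (σ : alternatingGroup (Fin 5)) (i : Fin 5) :
    KK G H σ * vv G i = vv G ((σ : Equiv.Perm (Fin 5)) i) * KK G H σ := by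
  have h1 := chk_A5 σ.1 (Equiv.Perm.mem_alternatingGroup.1 σ.2)
  have h2 := yW_v (G := G) H (kw σ.1) (kw_all _) i
  have h3 : pkW (kw σ.1) = σ.1 := h1.symm
  rw [h3] at h2
  exact h2

/-! ### the data of case 2 -/

def gg (G : Gens F ω) : threeJ3 F ω := ev G gw
def gi (G : Gens F ω) : threeJ3 F ω := ev G giw

theorem rep_g (H : Good ω) : RepG ω gT' (gg G) := rep_ev G H _ chk_gok.1
theorem rep_gi (H : Good ω) : RepG ω giT (gi G) := rep_ev G H _ chk_gok.2

theorem gg_gi (H : Good ω) : gg G * gi G = 1 :=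
  ((rep_g H).mul (rep_gi H)).ext (repG_one H) (beqL_eq chk_gi)

theorem gi_eq (H : Good ω) : gi G = (gg G)⁻¹ := (inv_eq_of_mul_eq_one_right (gg_gi H)).symm

theorem gg_z (H : Good ω) : gg G * zz G = vv G 4 * gg G :=
  ((rep_g H).mul (rep_z H)).ext ((rep_v H 4).mul (rep_g H)) (beqL_eq (chk_vconj 4))

def pq (G : Gens F ω) (i j : Fin 5) : threeJ3 F ω := gg G * (vv G i * vv G j * gi G)

theorem rep_pq (H : Good ω) (i j : Fin 5) : RepG ω (pT' i j) (pq G i j) :=
  (rep_g H).mul (((rep_v H i).mul (rep_v H j)).mul (rep_gi H))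

theorem pq_z2 (H : Good ω) : pq G 0 2 * zz G = zz G * pq G 0 2 :=
  ((rep_pq H 0 2).mul (rep_z H)).ext ((rep_z H).mul (rep_pq H 0 2)) (beqL_eq (chk_pz 0))

theorem pq_z3 (H : Good ω) : pq G 0 3 * zz G = zz G * pq G 0 3 :=
  ((rep_pq H 0 3).mul (rep_z H)).ext ((rep_z H).mul (rep_pq H 0 3)) (beqL_eq (chk_pz 1))

theorem pq_inv (H : Good ω) (i j : Fin 5) : pq G j i = (pq G i j)⁻¹ := by
  rw [pq, pq, gi_eq H]
  have h1 : (vv G i)⁻¹ = vv G i := inv_eq_of_mul_eq_one_right (vsq H i)
  have h2 : (vv G j)⁻¹ = vv G j := inv_eq_of_mul_eq_one_right (vsq H j)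
  rw [mul_inv_rev, mul_inv_rev, mul_inv_rev, inv_inv, h1, h2]
  group

theorem pq_prod (H : Good ω) :
    vv G 0 * ((pq G 0 2 * (vv G 0 * pq G 2 0)) * ((pq G 0 3 * (vv G 0 * pq G 3 0)) *
      ((pq G 0 2 * pq G 0 3) * (vv G 0 * (pq G 3 0 * pq G 2 0))))) = vv G 4 * zz G :=
  ((rep_v H 0).mul (((rep_pq H 0 2).mul ((rep_v H 0).mul (rep_pq H 2 0))).mul
    (((rep_pq H 0 3).mul ((rep_v H 0).mul (rep_pq H 3 0))).mul
    (((rep_pq H 0 2).mul (rep_pq H 0 3)).mul ((rep_v H 0).mul ((rep_pq H 3 0).mul (rep_pq H 2 0))))))).ext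
    ((rep_v H 4).mul (rep_z H)) (beqL_eq chk_prod)

/-! ### the element of order 9 -/

def xx (G : Gens F ω) : threeJ3 F ω := zz G * ev G [10, 24, 11]

theorem rep_x (H : Good ω) : RepG ω xT (xx G) := (rep_z H).mul (rep_ev G H _ (by decide +kernel))

theorem pow_three' {M : Type*} [Monoid M] (a : M) : a * (a * a) = a ^ 3 := by
  rw [pow_succ, pow_succ, pow_one, mul_assoc]

theorem x9 (H : Good ω) : (xx G) ^ 9 = 1 := by
  have r3 := (rep_x (G := G) H).mul ((rep_x (G := G) H).mul (rep_x (G := G) H))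
  have h := (r3.mul (r3.mul r3)).ext (repG_one H) (beqL_eq chk_x9)
  rw [pow_three', pow_three', ← pow_mul] at h
  exact h

theorem x3 (H : Good ω) : (xx G) ^ 3 ∉ Subgroup.center (threeJ3 F ω) := by
  intro h
  have h1 : xx G * (xx G * xx G) = xx G ^ 3 := pow_three' _
  rw [← h1] at h
  have h2 := Subgroup.mem_center_iff.1 h (bl G 12)
  obtain ⟨z, hz⟩ := chk_x3
  have r3 := (rep_x (G := G) H).mul ((rep_x (G := G) H).mul (rep_x (G := G) H))
  have r1 := r3.mul (rep_bl G H (k := 12) (by norm_num) (by norm_num))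
  have r2 := (rep_bl G H (k := 12) (by norm_num) (by norm_num)).mul r3
  rw [h2] at r2
  exact hz (r1.cols_eq H r2 z)

theorem x_eq (H : Good ω) : xx G = zz G * (bl G 10 * zz G * (bl G 10)⁻¹) := by
  have h1 : bl G 10 * bl G 11 = 1 :=
    ((rep_bl G H (by norm_num) (by norm_num)).mul (rep_bl G H (by norm_num) (by norm_num))).ext (repG_one H)
      (beqL_eq chk_xi)
  have h2 : (bl G 10)⁻¹ = bl G 11 := inv_eq_of_mul_eq_one_right h1
  rw [h2]
  show zz G * (bl G 10 * (bl G 24 * (bl G 11 * 1))) = _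
  rw [mul_one, mul_assoc]
  rfl

end

end Cfsg.Agent.H660.JSide
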