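import Mathlib
import Cfsg.Agent.S0675
import Cfsg.Agent.S0713
import Cfsg.Agent.SmallSimple.PrimeIndex

/-!
# Simple permutation groups of prime degree: numerical tests

* `exists_perm` : a simple group with a subgroup of prime index `p` is a transitive group of
  permutations of `Fin p`;
* `two_mul_dvd`, `mul_pred_dvd`, `jordan` : divisibility tests for its order;
* `comm_of_card_lt` : a `p`-group of permutations of less than `p ^ 2` points is commutative.
-/

set_option autoImplicit false
open Subgroup MulAction Equiv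

namespace Cfsg.Agent.H660.PermPrime

/-- A `p`-group acting faithfully on less than `p ^ 2` points is commutative. -/
theorem comm_of_card_lt {P Ω : Type*} [Group P] [Finite P] [MulAction P Ω] [FaithfulSMul P Ω]
    [Finite Ω] {p : ℕ} [hpf : Fact p.Prime] (hP : IsPGroup p P) (h : Nat.card Ω < p ^ 2) (a b : P) :
    a * b = b * a := by
  have hp : p.Prime := hpf.out
  apply FaithfulSMul.eq_of_smul_eq_smul (α := Ω)
  intro x
  have h1 : ∃ k, (stabilizer P x).index = p ^ k := hP.index _
  obtain ⟨k, hk⟩ := h1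
  have h2 : (stabilizer P x).index ≤ Nat.card Ω := by
    rw [index_stabilizer]
    exact Nat.card_le_card_of_injective (Subtype.val : orbit P x → Ω) Subtype.val_injective
  have hk2 : k < 2 := by
    by_contra hcon
    have h3 : p ^ 2 ≤ p ^ k := Nat.pow_le_pow_right hp.pos (by omega)
    omega
  have hnormal : (stabilizer P x).Normal ∧ ∀ u v : P, u * v * u⁻¹ * v⁻¹ ∈ stabilizer P x := by
    rcases Nat.lt_or_ge k 1 with h0 | h0
    · have : (stabilizer P x).index = 1 := by rw [hk, show k = 0 by omega, pow_zero]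
      rw [index_eq_one] at this
      rw [this]
      exact ⟨inferInstance, fun u v => mem_top _⟩
    · have hk1 : k = 1 := by omega
      rw [hk1, pow_one] at hk
      have hne : stabilizer P x ≠ ⊤ := by
        intro h
        rw [h, index_top] at hk
        exact hp.one_lt.ne hk
      have hn : (stabilizer P x).Normal := by
        apply Subgroup.normal_of_index_eq_minFac_card
        rw [hk]
        obtain ⟨m, hm⟩ := IsPGroup.iff_card.1 hP
        have hm0 : m ≠ 0 := by
          rintro rfl
          rw [pow_zero] at hm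
          have h4 := (stabilizer P x).index_dvd_card
          rw [hk, hm] at h4
          exact hp.one_lt.ne' (Nat.dvd_one.1 h4)
        rw [hm, hp.pow_minFac hm0]
      refine ⟨hn, fun u v => ?_⟩
      have hcyc : IsCyclic (P ⧸ stabilizer P x) := isCyclic_of_prime_card (p := p) hk
      have h5 := (IsCyclic.isMulCommutative (α := P ⧸ stabilizer P x)).1.comm
        (u : P ⧸ stabilizer P x) (v : P ⧸ stabilizer P x)
      rw [← QuotientGroup.eq_one_iff]
      have h6 : ((u * v * u⁻¹ * v⁻¹ : P) : P ⧸ stabilizer P x) =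
          (u : P ⧸ stabilizer P x) * (v : P ⧸ stabilizer P x) * (u : P ⧸ stabilizer P x)⁻¹ *
            (v : P ⧸ stabilizer P x)⁻¹ := rfl
      rw [h6, h5]
      group
  have h3 := hnormal.2 a b
  have h4 : (b * a)⁻¹ * (a * b) ∈ stabilizer P x := by
    have h5 := hnormal.1.conj_mem _ h3 (b * a)⁻¹
    have h6 : (b * a)⁻¹ * (a * b * a⁻¹ * b⁻¹) * (b * a)⁻¹⁻¹ = (b * a)⁻¹ * (a * b) := by group
    rwa [h6] at h5
  rw [mem_stabilizer_iff, mul_smul, inv_smul_eq_iff] at h4
  exact h4

/-- A simple group with a subgroup of prime index. -/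
theorem exists_perm {T : Type*} [Group T] [Finite T] [IsSimpleGroup T] (H : Subgroup T) {p : ℕ} (hp : p.Prime) (hH : H.index = p) :
    ∃ f : T →* Perm (Fin p), Function.Injective f ∧ IsPretransitive f.range (Fin p) := by
  classical
  have hcard : Nat.card (T ⧸ H) = p := hH
  have hfin : Finite (T ⧸ H) := Nat.finite_of_card_ne_zero (by rw [hcard]; exact hp.ne_zero)
  let e : (T ⧸ H) ≃ Fin p := Finite.equivFinOfCardEq hcard
  let f : T →* Perm (Fin p) := (e.permCongrHom.toMonoidHom).comp (toPermHom T (T ⧸ H))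
  have hf : ∀ (t : T) (i : Fin p), f t i = e (t • e.symm i) := fun t i => rfl
  refine ⟨f, ?_, ?_⟩
  · rw [← MonoidHom.ker_eq_bot_iff]
    rcases (inferInstance : f.ker.Normal).eq_bot_or_eq_top with h | h
    · exact h
    · exfalso
      have h1 : ∀ t : T, f t = 1 := fun t => by
        have : t ∈ f.ker := by rw [h]; exact mem_top t
        exact this
      have h2 : H = ⊤ := by
        rw [eq_top_iff]
        intro t _
        have h3 : t • ((1 : T) : T ⧸ H) = ((1 : T) : T ⧸ H) := by
          have h4 := hf t (e ((1 : T) : T ⧸ H))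
          rw [h1 t, Equiv.symm_apply_apply] at h4
          exact (e.injective h4).symm
        have h5 : ((t * 1 : T) : T ⧸ H) = ((1 : T) : T ⧸ H) := h3
        rw [mul_one, eq_comm, QuotientGroup.eq, inv_one, one_mul] at h5
        exact h5
      rw [h2, index_top] at hH
      exact hp.one_lt.ne hH
  · constructor
    intro i j
    obtain ⟨t, ht⟩ := exists_smul_eq T (e.symm i) (e.symm j)
    refine ⟨⟨f t, t, rfl⟩, ?_⟩
    show f t i = j
    rw [hf, ht, Equiv.apply_symm_apply]

section Tests

variable {p : ℕ} (G : Subgroup (Perm (Fin p))) [IsPretransitive G (Fin p)]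

omit [IsPretransitive G (Fin p)] in
theorem dvd_factorial : Nat.card G ∣ p.factorial := by
  have h1 := G.card_subgroup_dvd_card
  rwa [Nat.card_perm, Nat.card_fin] at h1

theorem dvd_card (hp : p.Prime) : p ∣ Nat.card G := by
  have : NeZero p := ⟨hp.ne_zero⟩
  have h1 := index_stabilizer_of_transitive G (0 : Fin p)
  rw [Nat.card_fin] at h1
  have h2 := Subgroup.index_dvd_card (stabilizer G (0 : Fin p))
  rwa [h1] at h2

omit [IsPretransitive G (Fin p)] in
theorem le_alternating [IsSimpleGroup G] (hna : ¬ IsMulCommutative G) :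
    G ≤ alternatingGroup (Fin p) := by
  classical
  have hn : ((alternatingGroup (Fin p)).subgroupOf G).Normal := inferInstance
  rcases hn.eq_bot_or_eq_top with h | h
  · exfalso
    apply hna
    constructor
    constructor
    intro a b
    have h1 : a * b * a⁻¹ * b⁻¹ ∈ (alternatingGroup (Fin p)).subgroupOf G := by
      rw [mem_subgroupOf, Perm.mem_alternatingGroup]
      push_cast
      rw [map_mul, map_mul, map_mul, map_inv, map_inv, mul_comm (Perm.sign (a : Perm (Fin p))),
        mul_assoc _ (Perm.sign (a : Perm (Fin p))), mul_inv_cancel, mul_one, mul_inv_cancel]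
    rw [h, mem_bot] at h1
    have h2 : a * b * (b * a)⁻¹ = 1 := by
      rw [mul_inv_rev, ← mul_assoc]
      exact h1
    exact mul_inv_eq_one.1 h2
  · rw [subgroupOf_eq_top] at h
    exact h

omit [IsPretransitive G (Fin p)] in
theorem two_mul_dvd [IsSimpleGroup G] (hna : ¬ IsMulCommutative G) (hp : 2 ≤ p) :
    2 * Nat.card G ∣ p.factorial := by
  classical
  have hnt : Nontrivial (Fin p) := Fin.nontrivial_iff_two_le.2 hp
  have h1 := Subgroup.card_dvd_of_le (le_alternating G hna)
  have h2 : 2 * Nat.card (alternatingGroup (Fin p)) = p.factorial := by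
    rw [Nat.card_eq_fintype_card, two_mul_card_alternatingGroup, Fintype.card_perm,
      Fintype.card_fin]
  rw [← h2]
  exact Nat.mul_dvd_mul_left 2 h1

theorem two_transitive (hp : p.Prime) [IsSimpleGroup G] (hna : ¬ IsMulCommutative G) :
    IsMultiplyPretransitive G (Fin p) 2 := by
  rcases Cfsg.Agent.S0675.result (by rw [Fintype.card_fin]; exact hp) G with h | h
  · exfalso
    exact hna ⟨⟨IsSimpleGroup.comm_iff_isSolvable.2 h⟩⟩
  · exact h

theorem preprimitive (hp : p.Prime) : IsPreprimitive G (Fin p) :=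
  IsPreprimitive.of_prime_card (by rw [Nat.card_fin]; exact hp)

/-- Jordan's theorem for primes `r` with `p / 2 < r ≤ p - 3`. -/
theorem jordan (hp : p.Prime) [IsSimpleGroup G] (hna : ¬ IsMulCommutative G) {r : ℕ}
    (hr : r.Prime) (hrG : r ∣ Nat.card G) (h1 : p < 2 * r) (h2 : r + 3 ≤ p) :
    2 * Nat.card G = p.factorial := by
  classical
  have hrf : Fact r.Prime := ⟨hr⟩
  obtain ⟨g, hg⟩ := exists_prime_orderOf_dvd_card' (G := G) r hrG
  have hg' : orderOf (g : Perm (Fin p)) = r := by rw [Subgroup.orderOf_coe, hg]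
  have hcyc : (g : Perm (Fin p)).IsCycle := by
    apply Equiv.Perm.isCycle_of_prime_order'
    · rw [hg']; exact hr
    · rw [hg', Fintype.card_fin]; exact h1
  have hsupp : (g : Perm (Fin p)).support.card = r := by rw [← hcyc.orderOf, hg']
  have hle := Cfsg.Agent.S0713.result G (preprimitive G hp) hr
    (by rw [Fintype.card_fin]; have := hr.two_le; omega) (by rw [Fintype.card_fin]; exact h2)
    hcyc hsupp g.2
  have heq : G = alternatingGroup (Fin p) := le_antisymm (le_alternating G hna) hle
  have hnt : Nontrivial (Fin p) := Fin.nontrivial_iff_two_le.2 hp.two_le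
  have h3 : 2 * Nat.card (alternatingGroup (Fin p)) = p.factorial := by
    rw [Nat.card_eq_fintype_card, two_mul_card_alternatingGroup, Fintype.card_perm,
      Fintype.card_fin]
  rw [heq]
  exact h3

end Tests

/-- Numerical tests excluding a subgroup of prime index `q` in a simple group of order `N`. -/
def Elim (N q : ℕ) : Prop :=
  ¬ (2 * N ∣ q.factorial) ∨ ¬ (q * (q - 1) ∣ N) ∨
    ∃ r, r.Prime ∧ r ∣ N ∧ q < 2 * r ∧ r + 3 ≤ q ∧ 2 * N ≠ q.factorial

/-- A prime index is the largest prime divisor of the order. -/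
theorem eq_of_dvd {p q : ℕ} (hp : p.Prime) (hq : q.Prime) (l : List (ℕ × ℕ))
    (hl : ∀ x ∈ l, 0 < x.1 ∧ x.1 ≤ q) {N : ℕ} (hN : N = (l.map fun x => x.1 ^ x.2).prod)
    (hqN : q ∣ N) (hpN : p ∣ N) (hNp : N ∣ p.factorial) : p = q := by
  apply le_antisymm
  · rw [hN, hp.prime.dvd_prod_iff] at hpN
    obtain ⟨a, ha, hpa⟩ := hpN
    rw [List.mem_map] at ha
    obtain ⟨x, hx, rfl⟩ := ha
    have h1 := hp.dvd_of_dvd_pow hpa
    exact (Nat.le_of_dvd (hl x hx).1 h1).trans (hl x hx).2
  · exact (hq.dvd_factorial).1 (hqN.trans hNp)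

theorem false_of_elim {T : Type*} [Group T] [Finite T] [IsSimpleGroup T]
    (hna : ¬ IsMulCommutative T) (H : Subgroup T) {p : ℕ} (hp : p.Prime) (hH : H.index = p)
    {N q : ℕ} (hT : Nat.card T = N) (hq : q.Prime) (l : List (ℕ × ℕ))
    (hl : ∀ x ∈ l, 0 < x.1 ∧ x.1 ≤ q) (hN : N = (l.map fun x => x.1 ^ x.2).prod)
    (hqN : q ∣ N) (he : Elim N q) : False := by
  obtain ⟨f, hf, htr⟩ := exists_perm H hp hH
  let e : T ≃* f.range := MonoidHom.ofInjective hf
  have hc : Nat.card f.range = N := by rw [← hT, Nat.card_congr e.toEquiv]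
  have hs : IsSimpleGroup f.range := e.symm.isSimpleGroup
  have hna' : ¬ IsMulCommutative f.range := by
    intro h
    apply hna
    exact ⟨⟨fun a b => e.injective (by rw [map_mul, map_mul, h.1.comm])⟩⟩
  have hpN : p ∣ N := by rw [← hc]; exact dvd_card f.range hp
  have hNp : N ∣ p.factorial := by rw [← hc]; exact dvd_factorial f.range
  have hpq := eq_of_dvd hp hq l hl hN hqN hpN hNp
  subst hpq
  rcases he with h | h | ⟨r, hr, hrN, h1, h2, h3⟩
  · apply h
    rw [← hc]
    exact two_mul_dvd f.range hna' hp.two_le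
  · apply h
    have h1 := Cfsg.Agent.SmallSimple.PrimeIndex.mul_pred_dvd_card (G := T) (fun hpr => hna (by
      have : Fact (Nat.card T).Prime := ⟨hpr⟩
      have := isCyclic_of_prime_card (α := T) rfl
      exact IsCyclic.isMulCommutative)) H (by rw [hH]; exact hp)
    rwa [hH, hT] at h1
  · apply h3
    rw [← hc] at hrN ⊢
    exact jordan f.range hp hna' hr hrN h1 h2

end Cfsg.Agent.H660.PermPrime
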