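import Cfsg.Agent.H944.TS.Iface
import Cfsg.Agent.H153.SixMathieu
import Cfsg.Agent.S1577

/-!
# S5741, task B7: `M₂₂` in `PSU₆(2)` (helper660)

`PSU₆(2)` is the joint stabiliser of two minimal vectors of the Leech lattice of inner product `−2` (S1577); take
`(4, −4, 0²²)` and `(−3, 1²³)`.
-/

set_option autoImplicit false

namespace Cfsg.Agent.H660.TSM22

open Cfsg Cfsg.Agent.OrdDiv Cfsg.Agent.H944.TS Cfsg.Agent.H153.SixMathieu

universe u

/-- The vector `(−3, 1²³)`. -/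
def vecW : GolayPt → ℤ := fun p => if p = none then -3 else 1

theorem vecW_mem : vecW ∈ leechSet :=
  Spor.mem_leechSet_of_const_mod_four vecW 1 1 (by decide) (by decide) (by decide)

/-- `(−3, 1²³)` as an element of `leechLattice`. -/
def leechW : leechLattice := ⟨vecW, AddSubgroup.subset_closure vecW_mem⟩

theorem sqNorm_U : sqNorm (Spor.leechU' : GolayPt → ℤ) = 32 := by decide

theorem sqNorm_W : sqNorm (leechW : GolayPt → ℤ) = 32 := by decide

theorem dot_UW : dotInt (Spor.leechU' : GolayPt → ℤ) (leechW : GolayPt → ℤ) = -16 := by decide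

theorem fixW {σ : M24} (hn : σ.1 none = none) (h0 : σ.1 (some 0) = some 0) : (ph σ).1 • leechW = leechW :=
  ph_fix σ _ (fix_of hn h0 vecW (fun p q h1 h2 h3 h4 => by unfold vecW; simp [h1, h3]))

/-- `M₂₂` in the joint stabiliser. -/
noncomputable def m22Hom : ↥Spor.M22 →* ↥(MulAction.stabilizer ↥Co0 Spor.leechU' ⊓ MulAction.stabilizer ↥Co0 leechW) where
  toFun σ := ⟨ph ⟨σ.1, σ.2.1.1⟩, ⟨fixU' σ.2.1.2 σ.2.2, fixW σ.2.1.2 σ.2.2⟩⟩
  map_one' := rfl
  map_mul' σ τ := by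
    apply Subtype.ext
    show ph ⟨σ.1 * τ.1, _⟩ = ph ⟨σ.1, _⟩ * ph ⟨τ.1, _⟩
    rw [← map_mul]
    rfl

theorem m22Hom_injective : Function.Injective m22Hom := by
  intro σ τ h
  have h1 : ph ⟨σ.1, σ.2.1.1⟩ = ph ⟨τ.1, τ.2.1.1⟩ := congrArg Subtype.val h
  have h2 := congrArg Subtype.val (ph_inj h1)
  exact Subtype.ext h2

theorem u6_m22 : Sub.{u} (.psu 6 2) .m22 := by
  intro X _ h
  obtain ⟨F, i1, i2, hF, ⟨e⟩⟩ := h
  obtain ⟨ε⟩ := Cfsg.Agent.S1577.result Spor.leechU' leechW sqNorm_U sqNorm_W dot_UW F (by rw [hF]; norm_num)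
  let g : ↥Spor.M22 →* X := (ε.trans e.symm).toMonoidHom.comp m22Hom
  have hg : Function.Injective g := (ε.trans e.symm).injective.comp m22Hom_injective
  exact ⟨g.range, ⟨(MonoidHom.ofInjective hg).symm⟩⟩

end Cfsg.Agent.H660.TSM22
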