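import Cfsg.Agent.H944.TS.Iface
import Cfsg.Agent.H832.UThree.Exist
import Cfsg.Agent.OrdDiv.Table

/-!
# S5741, task B7: `PSU₄(3)` in `PSU₆(2)` (helper660)

From S5520 (`3.PSU₄(3)` in `SU₆(2)`): the centre of such a subgroup is the centre of `SU₆(2)`, otherwise it would be
embedded in `PSU₆(2)`, whose order is not divisible by `3 ^ 7`.
-/

set_option autoImplicit false

namespace Cfsg.Agent.H660.TSU6

open Cfsg Cfsg.Agent.OrdDiv Cfsg.Agent.H944.TS Cfsg.Agent.H832.UThree

universe u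

theorem card_u6 {F : Type} [Field F] [Fintype F] (hF : Fintype.card F = 2 ^ 2) : Nat.card (PSU 6 F 2) = 9196830720 := by
  have h := Cfsg.Agent.S0280.result (q := 2) hF 6 (by norm_num)
  simp only [Finset.prod_range_succ, Finset.prod_range_zero] at h
  norm_num [Nat.even_iff] at h
  omega

theorem card_u4 {F : Type} [Field F] [Fintype F] (hF : Fintype.card F = 3 ^ 2) : Nat.card (PSU 4 F 3) = 3265920 := by
  have h := Cfsg.Agent.S0280.result (q := 3) hF 4 (by norm_num)
  simp only [Finset.prod_range_succ, Finset.prod_range_zero] at h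
  norm_num [Nat.even_iff] at h
  omega

theorem u6_u4_of (hS : ∀ (S : Type) [Group S] [Finite S] [IsSimpleGroup S], IsKnownSimple' S) :
    Sub.{u} (.psu 6 2) (.psu 4 3) := by
  intro X _ h
  obtain ⟨F, i1, i2, hF, ⟨e⟩⟩ := h
  obtain ⟨K, h1⟩ : ∃ K : Subgroup ↥(SU 6 F 2), Nat.card ↥(Subgroup.center ↥K) = 3 ∧
      Nonempty (↥K ⧸ Subgroup.center ↥K ≃* PSU 4 Cfsg.Agent.SporadicStructure.FieldNine.K9 3) := by
    obtain ⟨K₁, K₂, K₃, h1, -⟩ := three Cfsg.Agent.OrdDiv.table hS F (by rw [hF]; norm_num)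
      Cfsg.Agent.SporadicStructure.FieldNine.K9 Cfsg.Agent.SporadicStructure.FieldNine.K9.card_K9'
    exact ⟨K₁, h1 K₁ (by simp)⟩
  obtain ⟨hz, ⟨ε⟩⟩ := h1
  have hcK : Nat.card ↥K = 9797760 := by
    have h2 := Subgroup.card_eq_card_quotient_mul_card_subgroup (Subgroup.center ↥K)
    rw [hz, Nat.card_congr ε.toEquiv, card_u4 Cfsg.Agent.SporadicStructure.FieldNine.K9.card_K9'] at h2
    rw [h2]
  have hfK : Finite ↥K := Nat.finite_of_card_ne_zero (by rw [hcK]; norm_num)
  let f : ↥K →* PSU 6 F 2 := (QuotientGroup.mk' (Subgroup.center ↥(SU 6 F 2))).comp K.subtype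
  have hker : f.ker ≤ Subgroup.center ↥K := by
    intro k hk
    have h3 : (k : ↥(SU 6 F 2)) ∈ Subgroup.center ↥(SU 6 F 2) := by
      have h4 : QuotientGroup.mk' (Subgroup.center ↥(SU 6 F 2)) (k : ↥(SU 6 F 2)) = 1 := hk
      rwa [QuotientGroup.mk'_apply, QuotientGroup.eq_one_iff] at h4
    rw [Subgroup.mem_center_iff] at h3 ⊢
    intro g
    exact Subtype.ext (h3 g)
  have hk3 : Nat.card ↥f.ker ∣ 3 := hz ▸ Subgroup.card_dvd_of_le hker
  have hne : Nat.card ↥f.ker ≠ 1 := by
    intro h1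
    have hbot : f.ker = ⊥ := Subgroup.card_eq_one.1 h1
    have hinj : Function.Injective f := (MonoidHom.ker_eq_bot_iff f).1 hbot
    have hd := Subgroup.card_subgroup_dvd_card f.range
    rw [← Nat.card_congr (MonoidHom.ofInjective hinj).toEquiv, hcK, card_u6 hF] at hd
    revert hd
    norm_num
  have hk : Nat.card ↥f.ker = 3 := by
    rcases (Nat.dvd_prime Nat.prime_three).1 hk3 with h1 | h1
    · exact absurd h1 hne
    · exact h1
  have heq : f.ker = Subgroup.center ↥K := Subgroup.eq_of_le_of_card_ge hker (by rw [hk, hz])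
  have ι : ↥K ⧸ Subgroup.center ↥K ≃* ↥f.range :=
    (QuotientGroup.quotientMulEquivOfEq heq.symm).trans (QuotientGroup.quotientKerEquivRange f)
  let g : ↥f.range →* X := e.symm.toMonoidHom.comp f.range.subtype
  have hg : Function.Injective g := e.symm.injective.comp f.range.subtype_injective
  exact ⟨g.range, _, _, _, Cfsg.Agent.SporadicStructure.FieldNine.K9.card_K9',
    ⟨(MonoidHom.ofInjective hg).symm.trans (ι.symm.trans ε)⟩⟩

end Cfsg.Agent.H660.TSU6
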